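import Groth.Agent.Lib.LogNCD28.Basic
import Groth.Agent.Lib.Omega12.LocFree
import Groth.Agent.Lib.RelCech8.Terms
import Mathlib.RingTheory.Etale.Kaehler

/-!
# The sheaf of logarithmic differentials is locally free of the relative dimension
-/

set_option autoImplicit false
set_option backward.isDefEq.respectTransparency false
set_option backward.isDefEq.respectTransparency.types false
set_option linter.style.haveILetI false

universe u

open CategoryTheory CategoryTheory.Limits AlgebraicGeometry TopologicalSpace Opposite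

namespace Groth.Agent.LogRank12

variable {X S : Scheme.{u}} (f : X ⟶ S)

/-- Étale coordinates give a basis of the differentials of an affine chart. -/
theorem exists_basis_chart {W : X.Opens} {σ : Type u} [Finite σ] (v : σ → Γ(W, ⊤))
    (hv : Etale (AffineSpace.homOfVector (W.ι ≫ f) v)) {U : X.Opens} (hU : IsAffineOpen U)
    {V : S.Opens} (hV : IsAffineOpen V) (hUV : U ≤ f ⁻¹ᵁ V) (h : U ≤ W) :
    letI := (f.appLE V U hUV).hom.toAlgebra
    ∃ b : Module.Basis σ Γ(X, U) (KaehlerDifferential Γ(S, V) Γ(X, U)),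
      ∀ i, b i = KaehlerDifferential.D Γ(S, V) Γ(X, U) (LogNCD.sectOn W h (v i)) := by
  haveI : IsAffine (U : Scheme.{u}) := hU
  haveI : IsAffine (V : Scheme.{u}) := hV
  let g := f.resLE V U hUV
  let χ := AffineSpace.homOfVector g (fun i => (X.homOfLE h).appTop (v i))
  have hcomp : χ ≫ AffineSpace.map σ V.ι =
      X.homOfLE h ≫ AffineSpace.homOfVector (W.ι ≫ f) v := by
    refine AffineSpace.hom_ext ?_ fun i => ?_
    · rw [Category.assoc, AffineSpace.map_over, AffineSpace.homOfVector_over_assoc, Category.assoc,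
        AffineSpace.homOfVector_over, X.homOfLE_ι_assoc h]
      exact Scheme.Hom.resLE_comp_ι f hUV
    · refine Eq.trans ?_ (congrArg (X.homOfLE h).appTop
        (AffineSpace.homOfVector_appTop_coord (W.ι ≫ f) v i)).symm
      show χ.appTop ((AffineSpace.map σ V.ι).appTop (AffineSpace.coord S i)) = _
      exact (congrArg χ.appTop (AffineSpace.map_appTop_coord V.ι i)).trans
        (AffineSpace.homOfVector_appTop_coord g _ i)
  haveI : IsOpenImmersion (AffineSpace.map σ V.ι) :=
    MorphismProperty.of_isPullback (P := @IsOpenImmersion) (AffineSpace.isPullback_map V.ι).flip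
      inferInstance
  haveI : Etale (χ ≫ AffineSpace.map σ V.ι) := by rw [hcomp]; infer_instance
  haveI : Etale χ := Etale.of_comp χ (AffineSpace.map σ V.ι)
  let ψ := χ ≫ (AffineSpace.isoOfIsAffine σ (V : Scheme.{u})).hom
  haveI : Etale ψ := inferInstance
  have het : ψ.appTop.hom.Etale := (HasRingHomProperty.iff_of_isAffine (P := @Etale)).1 inferInstance
  let θ₀ := ((Scheme.ΓSpecIso _).inv ≫ ψ.appTop ≫ U.topIso.hom).hom
  have hθ₀ : θ₀.Etale := by
    have h1 := RingHom.Etale.respectsIso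
    simp only [θ₀, CommRingCat.hom_comp]
    exact h1.cancel_left_isIso _ _ |>.2 ((h1.cancel_right_isIso ψ.appTop U.topIso.hom).2 het)
  let θ : MvPolynomial σ Γ(S, V) →+* Γ(X, U) :=
    θ₀.comp (MvPolynomial.mapEquiv σ V.topIso.symm.commRingCatIsoToRingEquiv).toRingHom
  have hθ : θ.Etale := RingHom.Etale.respectsIso.2 _ _ hθ₀
  have hθ₀e : ∀ P, θ₀ P = U.topIso.hom (χ.appTop (MvPolynomial.eval₂Hom
      ((𝔸(σ; (V : Scheme.{u})) ↘ (V : Scheme.{u})).appTop).hom
      (AffineSpace.coord (V : Scheme.{u})) P)) := fun P => by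
    simp only [θ₀, ψ, Scheme.Hom.comp_appTop, AffineSpace.isoOfIsAffine_hom_appTop, Category.assoc,
      CommRingCat.hom_comp, RingHom.comp_apply, CommRingCat.hom_ofHom]
    rw [show (Scheme.ΓSpecIso _).hom.hom ((Scheme.ΓSpecIso _).inv.hom P) = P from
      Iso.inv_hom_id_apply (Scheme.ΓSpecIso (CommRingCat.of (MvPolynomial σ Γ((V : Scheme.{u}), ⊤)))) P]
  have hC : ∀ c, θ (MvPolynomial.C c) = f.appLE V U hUV c := fun c => by
    show θ₀ (MvPolynomial.map (V.topIso.inv.hom) (MvPolynomial.C c)) = _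
    rw [MvPolynomial.map_C, hθ₀e, MvPolynomial.eval₂Hom_C]
    have h1 : (𝔸(σ; (V : Scheme.{u})) ↘ (V : Scheme.{u})).appTop ≫ χ.appTop =
        V.topIso.hom ≫ f.appLE V U hUV ≫ U.topIso.inv := by
      rw [← Scheme.Hom.comp_appTop, AffineSpace.homOfVector_over]
      exact Scheme.Hom.resLE_app_top f hUV
    have h2 := CategoryTheory.congr_fun h1 (V.topIso.inv c)
    simp only [CommRingCat.comp_apply] at h2
    refine (congrArg U.topIso.hom h2).trans ?_
    rw [Iso.inv_hom_id_apply, Iso.inv_hom_id_apply]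
  have hX : ∀ i, θ (MvPolynomial.X i) = LogNCD.sectOn W h (v i) := fun i => by
    show θ₀ (MvPolynomial.map (V.topIso.inv.hom) (MvPolynomial.X i)) = _
    rw [MvPolynomial.map_X, hθ₀e, MvPolynomial.eval₂Hom_X', AffineSpace.homOfVector_appTop_coord,
      LogNCD.sectOn_apply]
    rw [← CommRingCat.comp_apply, ← CommRingCat.comp_apply]
    refine DFunLike.congr_fun (congrArg CommRingCat.Hom.hom ?_) (v i)
    simp [Scheme.homOfLE_appTop, ← Functor.map_comp]
  letI := (f.appLE V U hUV).hom.toAlgebra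
  letI := θ.toAlgebra
  haveI : IsScalarTower Γ(S, V) (MvPolynomial σ Γ(S, V)) Γ(X, U) :=
    IsScalarTower.of_algebraMap_eq fun c => (hC c).symm
  haveI : Algebra.Etale (MvPolynomial σ Γ(S, V)) Γ(X, U) := hθ
  refine ⟨((KaehlerDifferential.mvPolynomialBasis Γ(S, V) σ).baseChange Γ(X, U)).map
    (KaehlerDifferential.tensorKaehlerEquivOfFormallyEtale Γ(S, V) (MvPolynomial σ Γ(S, V)) Γ(X, U)),
    fun i => ?_⟩
  have hb0 : KaehlerDifferential.mvPolynomialBasis Γ(S, V) σ i =
      KaehlerDifferential.D Γ(S, V) (MvPolynomial σ Γ(S, V)) (MvPolynomial.X i) :=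
    (KaehlerDifferential.mvPolynomialBasis Γ(S, V) σ).repr.injective (by simp)
  rw [Module.Basis.map_apply, Module.Basis.baseChange_apply, hb0, ← hX i,
    ← KaehlerDifferential.tensorKaehlerEquivOfFormallyEtale_symm_D_algebraMap, LinearEquiv.apply_symm_apply]
  rfl

section Chart

variable {f} {Ω' : X.Modules} {d : OmegaSh.Der f Ω'} {r : ℕ} {D : Fin r → X.IdealSheafData}
  {Λ : LogNCD.LogMod d D} {U : X.affineOpens}

/-- A coordinate basis of the differentials gives a basis of the logarithmic differentials. -/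
theorem exists_basis_log (C : LogNCD28.Chart Λ U) {σ : Type u} [Finite σ]
    (b : Module.Basis σ Γ(X, U.1) Γ(Ω', U.1)) {P : Fin r → Prop} (e : {i // P i} → σ)
    (he : Function.Injective e) (hP : ∀ i, ¬ P i → C.g i = 1)
    (hb : ∀ i : {i // P i}, b (e i) = d.app U.1 (C.g i.1)) :
    Nonempty (Module.Basis σ Γ(X, U.1) Γ(Λ.L, U.1)) := by
  classical
  haveI := Λ.mono
  cases nonempty_fintype σ
  let R := Γ(X, U.1)
  let G : R := ∏ i, C.g i
  let ι' : Γ(Ω', U.1) → Γ(Λ.L, U.1) := fun w => Λ.ι.app U.1 w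
  have hιinj : Function.Injective ι' := M1.app_injective Λ.ι U.1
  have hιs : ∀ (a : R) w, ι' (a • w) = a • ι' w := fun a w => Scheme.Modules.Hom.app_smul Λ.ι a w
  have hG : ∀ a : R, a * G = 0 → a = 0 := by
    intro a ha
    by_cases hne : ∃ i, P i
    · obtain ⟨i, hi⟩ := hne
      have h1 : G • ι' (a • b (e ⟨i, hi⟩)) = 0 := by
        rw [← hιs, smul_smul, mul_comm, ha, zero_smul]
        exact map_zero (Λ.ι.app U.1).hom
      have h2 : a • b (e ⟨i, hi⟩) = 0 := hιinj ((C.torsion _ h1).trans (map_zero (Λ.ι.app U.1).hom).symm)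
      have h3 := congrArg (fun z => b.repr z (e ⟨i, hi⟩)) h2
      simpa using h3
    · have : G = 1 := Finset.prod_eq_one fun i _ => hP i fun hi => hne ⟨i, hi⟩
      rwa [this, mul_one] at ha
  let ω : σ → Γ(Λ.L, U.1) := Function.extend e (fun i => C.dl i.1) fun j => ι' (b j)
  let μ : σ → R := Function.extend e (fun i => ∏ l ∈ Finset.univ.erase i.1, C.g l) fun _ => G
  have hμ : ∀ j, G • ω j = ι' (μ j • b j) := by
    intro j
    by_cases hj : ∃ i, e i = j
    · obtain ⟨i, rfl⟩ := hj
      simp only [ω, μ, he.extend_apply]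
      rw [hιs, hb i]
      show G • C.dl i.1 = _ • Λ.ι.app U.1 (d.app U.1 (C.g i.1))
      rw [← C.gdl i.1, smul_smul, Finset.prod_erase_mul _ _ (Finset.mem_univ _)]
    · simp only [ω, μ, Function.extend_apply' _ _ _ hj, hιs]
  have hμ0 : ∀ (j : σ) (a : R), a * μ j = 0 → a = 0 := by
    intro j a ha
    refine hG a ?_
    by_cases hj : ∃ i, e i = j
    · obtain ⟨i, rfl⟩ := hj
      simp only [μ, he.extend_apply] at ha
      show a * ∏ l, C.g l = 0
      rw [← Finset.prod_erase_mul _ _ (Finset.mem_univ i.1), ← mul_assoc, ha, zero_mul]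
    · simpa only [μ, Function.extend_apply' _ _ _ hj] using ha
  refine ⟨Module.Basis.mk (v := ω) ?_ ?_⟩
  · refine Fintype.linearIndependent_iff.2 fun c hc j => hμ0 j (c j) ?_
    have h1 : ∑ k, (c k * μ k) • b k = 0 := by
      refine hιinj ?_
      have h2 : ι' (∑ k, (c k * μ k) • b k) = ∑ k, ι' ((c k * μ k) • b k) :=
        map_sum (Λ.ι.app U.1).hom _ _
      rw [h2]
      refine Eq.trans ?_ (map_zero (Λ.ι.app U.1).hom).symm
      refine Eq.trans (Finset.sum_congr rfl fun k _ => ?_) ((Finset.smul_sum.symm.trans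
        (congrArg (G • ·) hc)).trans (smul_zero G))
      rw [mul_smul, hιs, ← hμ, smul_comm]
    exact Fintype.linearIndependent_iff.1 b.linearIndependent _ h1 j
  · have hω : ∀ j, ι' (b j) ∈ Submodule.span R (Set.range ω) := by
      intro j
      by_cases hj : ∃ i, e i = j
      · obtain ⟨i, rfl⟩ := hj
        rw [hb i]
        show Λ.ι.app U.1 (d.app U.1 (C.g i.1)) ∈ _
        rw [← C.gdl i.1]
        refine Submodule.smul_mem _ _ (Submodule.subset_span ⟨e i, ?_⟩)
        simp only [ω, he.extend_apply]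
      · refine Submodule.subset_span ⟨j, ?_⟩
        simp only [ω, Function.extend_apply' _ _ _ hj]
    have hι : ∀ w, ι' w ∈ Submodule.span R (Set.range ω) := by
      intro w
      rw [← b.sum_repr w]
      show Λ.ι.app U.1 (∑ j, b.repr w j • b j) ∈ _
      rw [map_sum]
      exact Submodule.sum_mem _ fun j _ => by
        show ι' _ ∈ _
        rw [hιs]
        exact Submodule.smul_mem _ _ (hω j)
    intro s _
    obtain ⟨w, a, rfl⟩ := C.gen s
    refine add_mem (hι w) (Submodule.sum_mem _ fun i _ => Submodule.smul_mem _ _ ?_)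
    by_cases hi : P i
    · refine Submodule.subset_span ⟨e ⟨i, hi⟩, ?_⟩
      simp only [ω, he.extend_apply]
    · have h1 := C.gdl i
      rw [hP i hi, one_smul] at h1
      rw [h1]
      exact hι _

end Chart

variable {f} {Ω' : X.Modules} {d : OmegaSh.Der f Ω'} {r : ℕ} {D : Fin r → X.IdealSheafData}

/-- The sheaf of logarithmic differentials is quasi-coherent. -/
theorem isQCoh_log (hd : OmegaSh.IsUniversal d) (hD : LogNCD.IsNCD D f) (Λ : LogNCD.LogMod d D) :
    Coh.IsQCoh Λ.L := by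
  have h : Λ.ι ≫ Pi.lift Λ.res = 0 := Limits.Pi.hom_ext _ _ fun i => by simp [Λ.res_ι i]
  haveI : HasFiniteBiproducts X.Modules := HasFiniteBiproducts.of_hasFiniteProducts
  let F : Fin r → X.Modules := fun i => ClSub.quotMod (D i)
  refine M1.isQCoh_of_shortExact (LogNCD28.shortExact_res hD Λ h) (Omega12.isQCoh_receptacle f hd) ?_
  let e : (∐ fun j : ULift.{u} (Fin r) => F j.down) ≅ ∏ᶜ F :=
    Sigma.whiskerEquiv Equiv.ulift (fun _ => Iso.refl _) ≪≫ (biproduct.isoCoproduct F).symm ≪≫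
      biproduct.isoProduct F
  exact M1.isQCoh_of_isIso e (SerreCl8.isQCoh_sigma _ fun j =>
    M1.isQCoh_push _ (M1.isQCoh_structureModule _))

theorem isFinLocFreeOfRank_log (n : ℕ) [SmoothOfRelativeDimension n f] (hd : OmegaSh.IsUniversal d)
    (hD : LogNCD.IsNCD D f) (Λ : LogNCD.LogMod d D) : FlatMod.IsFinLocFreeOfRank n Λ.L := by
  classical
  intro x
  obtain ⟨V, hV, U₀, hU₀, hxU₀, hle₀, hs₀⟩ :=
    SmoothOfRelativeDimension.exists_isStandardSmoothOfRelativeDimension (n := n) (f := f) x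
  -- the data near `x`
  suffices key : ∃ U : X.affineOpens, x ∈ U.1 ∧ U.1 ≤ U₀ ∧
      Nonempty (Module.Basis (ULift.{u} (Fin n)) Γ(X, U.1) Γ(Λ.L, U.1)) by
    obtain ⟨⟨U, hU⟩, hxU, -, ⟨b⟩⟩ := key
    obtain ⟨e⟩ := Omega12.nonempty_restrict_fromSpec_iso (isQCoh_log hd hD Λ) hU
      (ModuleCat.of Γ(X, U) (ULift.{u} (Fin n) →₀ Γ(X, U))) b.repr
    obtain ⟨z, hz⟩ := hU.range_fromSpec.ge hxU
    obtain ⟨e'⟩ := M1.nonempty_fr_freeMod (hU.fromSpec.opensRange : Scheme.{u}) (ULift.{u} (Fin n))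
    refine ⟨hU.fromSpec.opensRange, ⟨z, hz⟩, ?_⟩
    have h : Set.range hU.fromSpec.opensRange.ι ⊆ Set.range hU.fromSpec := by
      rw [Scheme.Opens.range_ι]; rfl
    rw [Nat.card_ulift, Nat.card_fin] at e'
    exact ⟨(M1.restrictLiftIso _ hU.fromSpec hU.fromSpec.opensRange.ι h).symm ≪≫
      (Scheme.Modules.restrictFunctor (IsOpenImmersion.lift hU.fromSpec hU.fromSpec.opensRange.ι h)).mapIso
        (e ≪≫ M1.frTildeIso _) ≪≫ (M1.frRestrictIso _ _).symm ≪≫ e'⟩
  -- rank of the differentials on a principal open subset of the standard smooth chart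
  have hrank : ∀ a : Γ(X, U₀), x ∈ X.basicOpen a →
      Module.rank Γ(X, X.basicOpen a) Γ(Ω', X.basicOpen a) = n ∧ Nontrivial Γ(X, X.basicOpen a) := by
    intro a hxa
    have hU := hU₀.basicOpen a
    have hle : X.basicOpen a ≤ f ⁻¹ᵁ V := (X.basicOpen_le a).trans hle₀
    letI := (f.appLE V (X.basicOpen a) hle).hom.toAlgebra
    letI : Algebra Γ(X, U₀) Γ(X, X.basicOpen a) :=
      (X.presheaf.map (homOfLE (X.basicOpen_le a)).op).hom.toAlgebra
    haveI : IsLocalization.Away a Γ(X, X.basicOpen a) := hU₀.isLocalization_basicOpen a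
    have hs : (f.appLE V (X.basicOpen a) hle).hom.IsStandardSmoothOfRelativeDimension n := by
      have h1 := RingHom.IsStandardSmoothOfRelativeDimension.comp
        (RingHom.IsStandardSmoothOfRelativeDimension.algebraMap_isLocalizationAway
          (Rᵣ := Γ(X, X.basicOpen a)) a) hs₀
      rw [zero_add] at h1
      convert h1 using 1
      rw [RingHom.algebraMap_toAlgebra, ← CommRingCat.hom_comp, Scheme.Hom.appLE_map]
    haveI : Algebra.IsStandardSmoothOfRelativeDimension n Γ(S, V) Γ(X, X.basicOpen a) := hs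
    haveI : Nonempty ((X.basicOpen a).toScheme) := ⟨⟨x, hxa⟩⟩
    haveI : Nontrivial Γ(X, X.basicOpen a) := Scheme.component_nontrivial X _
    refine ⟨?_, inferInstance⟩
    rw [← (Omega12.sectLinEquiv f hd hU hV hle).rank_eq]
    exact Algebra.IsStandardSmoothOfRelativeDimension.rank_kaehlerDifferential n
  by_cases hne : Nonempty (LogNCD.Through D x)
  · obtain ⟨W, hxW, m, v, e, he, hv, h1, h2⟩ := hD x hne
    obtain ⟨a, haW, hxa⟩ := hU₀.exists_basicOpen_le (V := W) ⟨x, hxW⟩ hxU₀
    have hU := hU₀.basicOpen a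
    have hle : X.basicOpen a ≤ f ⁻¹ᵁ V := (X.basicOpen_le a).trans hle₀
    obtain ⟨bK, hbK⟩ := exists_basis_chart f v hv hU hV hle haW
    letI := (f.appLE V (X.basicOpen a) hle).hom.toAlgebra
    let b := bK.map (Omega12.sectLinEquiv f hd hU hV hle)
    have hbv : ∀ j, b j = d.app (X.basicOpen a) (LogNCD.sectOn W haW (v j)) := fun j => by
      show Omega12.sectLinEquiv f hd hU hV hle (bK j) = _
      rw [hbK, Omega12.sectLinEquiv_D]
    obtain ⟨hr, hnt⟩ := hrank a hxa
    haveI := hnt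
    have hmn : m = n := by
      have := rank_eq_card_basis b
      rw [hr, Fintype.card_ulift, Fintype.card_fin] at this
      exact (Nat.cast_injective this).symm
    subst hmn
    let g : Fin r → Γ(X, X.basicOpen a) := fun i => if hi : x ∈ (D i).support then
      LogNCD.sectOn W haW (v (ULift.up (e ⟨i, hi⟩))) else 1
    have hg : ∀ i, (D i).ideal ⟨_, hU⟩ = Ideal.span {g i} := fun i => by
      by_cases hi : x ∈ (D i).support
      · simp only [g, dif_pos hi]
        exact h1 ⟨i, hi⟩ ⟨_, hU⟩ haW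
      · simp only [g, dif_neg hi]
        rw [h2 i hi ⟨_, hU⟩ haW, Ideal.span_singleton_one]
    obtain ⟨C, hC⟩ := LogNCD28.nonempty_chart Λ ⟨_, hU⟩ g hg
    refine ⟨⟨_, hU⟩, hxa, X.basicOpen_le a, exists_basis_log C b (P := fun i => x ∈ (D i).support)
      (fun i => ULift.up (e i)) (fun i j hij => he (congrArg ULift.down hij)) (fun i hi => ?_) fun i => ?_⟩
    · rw [hC]; exact dif_neg hi
    · refine (hbv _).trans ?_
      rw [hC]
      simp only [g, dif_pos i.2]
  · have hc : IsClosed (⋃ i, ((D i).support : Set X)) :=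
      isClosed_iUnion_of_finite fun i => (D i).support.isClosed
    obtain ⟨a, haW, hxa⟩ := hU₀.exists_basicOpen_le (V := ⟨(⋃ i, ((D i).support : Set X))ᶜ, hc.isOpen_compl⟩)
      ⟨x, fun hx => hne (by obtain ⟨i, hi⟩ := Set.mem_iUnion.1 hx; exact ⟨⟨i, hi⟩⟩)⟩ hxU₀
    have hU := hU₀.basicOpen a
    have hle : X.basicOpen a ≤ f ⁻¹ᵁ V := (X.basicOpen_le a).trans hle₀
    have hg : ∀ i, (D i).ideal ⟨_, hU⟩ = Ideal.span {(1 : Γ(X, X.basicOpen a))} := fun i => by
      rw [Ideal.span_singleton_one]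
      exact LogNCD28.ideal_eq_top_of_disjoint _ _ fun y hy hyi => haW hy (Set.mem_iUnion.2 ⟨i, hyi⟩)
    obtain ⟨C, hC⟩ := LogNCD28.nonempty_chart Λ ⟨_, hU⟩ (fun _ => 1) hg
    obtain ⟨hr, hnt⟩ := hrank a hxa
    haveI := hnt
    letI := (f.appLE V (X.basicOpen a) hle).hom.toAlgebra
    haveI : Smooth f := SmoothOfRelativeDimension.smooth n f
    haveI : Algebra.FiniteType Γ(S, V) Γ(X, X.basicOpen a) := f.finiteType_appLE hV hU hle
    haveI : Algebra.FormallySmooth Γ(S, V) Γ(X, X.basicOpen a) := by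
      exact SmoothLift15.formallySmooth_appLE f (SmoothLift15.isFormallySmoothHom_of_smooth f) hU hV hle
    haveI : Module.Finite Γ(X, X.basicOpen a) Γ(Ω', X.basicOpen a) :=
      Module.Finite.equiv (Omega12.sectLinEquiv f hd hU hV hle)
    haveI : Module.Free Γ(X, X.basicOpen a) Γ(Ω', X.basicOpen a) := by
      haveI : Algebra.IsStandardSmoothOfRelativeDimension n Γ(S, V) Γ(X, X.basicOpen a) := by
        letI : Algebra Γ(X, U₀) Γ(X, X.basicOpen a) :=
          (X.presheaf.map (homOfLE (X.basicOpen_le a)).op).hom.toAlgebra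
        haveI : IsLocalization.Away a Γ(X, X.basicOpen a) := hU₀.isLocalization_basicOpen a
        have h1 := RingHom.IsStandardSmoothOfRelativeDimension.comp
          (RingHom.IsStandardSmoothOfRelativeDimension.algebraMap_isLocalizationAway
            (Rᵣ := Γ(X, X.basicOpen a)) a) hs₀
        rw [zero_add, RingHom.algebraMap_toAlgebra, ← CommRingCat.hom_comp, Scheme.Hom.appLE_map] at h1
        exact h1
      haveI : Algebra.IsStandardSmooth Γ(S, V) Γ(X, X.basicOpen a) :=
        Algebra.IsStandardSmoothOfRelativeDimension.isStandardSmooth n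
      exact Module.Free.of_equiv (Omega12.sectLinEquiv f hd hU hV hle)
    let b := (Module.finBasisOfFinrankEq Γ(X, X.basicOpen a) Γ(Ω', X.basicOpen a)
      (Module.finrank_eq_of_rank_eq hr)).reindex Equiv.ulift.{u}.symm
    exact ⟨⟨_, hU⟩, hxa, X.basicOpen_le a, exists_basis_log C b (P := fun _ => False)
      (fun i => i.2.elim) (fun i => i.2.elim) (fun i _ => by rw [hC]) fun i => i.2.elim⟩

end Groth.Agent.LogRank12
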